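import Groth.Agent.SmoothApprox7.Data
import Groth.Agent.RigFEt7.Newton
import Mathlib.RingTheory.Henselian

/-!
# Approximate points of smooth algebras over `A[1/t]` are near points

Elkik's approximation for a principal henselian ideal.
-/

universe u
open MvPolynomial

namespace Groth.Agent.SmoothApprox7

theorem isUnit_one_add {R : Type u} [CommRing R] {I : Ideal R} [HenselianRing R I] {x : R} (hx : x ∈ I) :
    IsUnit (1 + x) := by
  have h := Ideal.mem_jacobson_bot.1 (HenselianRing.jac hx) 1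
  rwa [mul_one, add_comm] at h

theorem dvd_aeval_sub {A R : Type u} [CommRing A] [CommRing R] [Algebra A R] {n : ℕ} {u v : Fin n → R} {q : R}
    (h : ∀ i, q ∣ u i - v i) (P : MvPolynomial (Fin n) A) : q ∣ aeval u P - aeval v P := by
  rw [← Ideal.mem_span_singleton, ← Ideal.Quotient.eq, ← Ideal.Quotient.mkₐ_eq_mk A, comp_aeval_apply,
    comp_aeval_apply]
  refine congrArg (fun f => aeval f P) (funext fun i => ?_)
  rw [Ideal.Quotient.mkₐ_eq_mk, Ideal.Quotient.eq, Ideal.mem_span_singleton]
  exact h i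

variable {A : Type u} [CommRing A] (t : A) {K : Type u} [CommRing K] [Algebra A K] [IsLocalization.Away t K]

theorem exists_approx {R : Type u} [CommRing R] [Algebra A R] [HenselianRing R (Ideal.span {algebraMap A R t})]
    (ht : ∀ r : R, algebraMap A R t * r = 0 → r = 0)
    (Kb : Type u) [CommRing Kb] [Algebra R Kb] [IsLocalization.Away (algebraMap A R t) Kb]
    [Algebra A Kb] [IsScalarTower A R Kb] [Algebra K Kb] [IsScalarTower A K Kb]
    (C' : Type u) [CommRing C'] [Algebra K C'] [Algebra A C'] [IsScalarTower A K C'] [Algebra.Smooth K C']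
    {p : ℕ} (y : Fin p → C') (hy : Function.Surjective (aeval y : MvPolynomial (Fin p) K →ₐ[K] C'))
    (a : ℕ → Fin p → R)
    (hrel : ∀ Q : MvPolynomial (Fin p) A, aeval y Q = 0 →
      ∃ D : ℕ, ∀ M : ℕ, algebraMap A R t ^ (M - D) ∣ aeval (a M) Q) (m : ℕ) :
    ∃ M : ℕ, m ≤ M ∧ ∃ (τ : C' →ₐ[K] Kb) (b : Fin p → R),
      ∀ j, τ (y j) = algebraMap R Kb (b j) ∧ algebraMap A R t ^ m ∣ b j - a M j := by
  classical
  obtain ⟨C, _, _, _, _, _, ⟨ρ⟩, _⟩ := Groth.Agent.SmoothingLib.exists_standardSmooth_retract (R := K) (A := C')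
  let r : C →ₐ[K] C' := ρ.restrictScalars K
  let s : C' →ₐ[K] C := IsScalarTower.toAlgHom K C' C
  have hrs : ∀ c, r (s c) = c := fun c => ρ.commutes c
  letI : Algebra A C := Algebra.compHom C (algebraMap A K)
  haveI : IsScalarTower A K C := IsScalarTower.of_algebraMap_eq fun _ => rfl
  obtain ⟨n, G, S, x, hx, hker, hdet⟩ := exists_square_system K C
  choose Q hQ using fun i => hy (r (x i))
  obtain ⟨e, Pq, hPq⟩ := exists_integral_mul_family t Q
  obtain ⟨F, hz, hzker, hzdet⟩ := exists_integral_system t C n G S x hx hker hdet e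
  set z : Fin n → C := fun i => algebraMap A C t ^ e * x i with hzdef
  have hrz : ∀ i, r (z i) = aeval y (Pq i) := fun i => by
    rw [hzdef, map_mul, map_pow, IsScalarTower.algebraMap_apply A K C, AlgHom.commutes,
      ← aeval_map_algebraMap K y (Pq i), hPq, map_mul, hQ, aeval_C, map_pow]
  have hsub : ∀ H : MvPolynomial (Fin n) A, aeval y (bind₁ Pq H) = r (aeval z H) := fun H => by
    rw [aeval_bind₁, ← AlgHom.restrictScalars_apply A r, comp_aeval_apply]
    refine congrArg (fun f => aeval f H) (funext fun i => ?_)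
    exact (hrz i).symm
  -- the Jacobian
  let J : MvPolynomial (Fin n) A := (Matrix.of fun i j => pderiv j (F i)).det
  have hJ : IsUnit (aeval z J) := by
    rw [AlgHom.map_det]
    convert hzdet using 2
    ext i j
    simp
  obtain ⟨W, hW⟩ := hz ↑hJ.unit⁻¹
  obtain ⟨c, W₀, hW₀⟩ := exists_integral_mul t W
  have hH₀ : aeval z (J * W₀ - MvPolynomial.C (t ^ c)) = 0 := by
    rw [map_sub, map_mul, ← aeval_map_algebraMap K z W₀, hW₀, map_mul, hW, aeval_C, aeval_C, map_pow, mul_left_comm,
      IsUnit.mul_val_inv, mul_one, IsScalarTower.algebraMap_apply A K C]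
    simp only [map_pow, sub_self]
  -- the section
  choose R₁ hR₁ using fun j => hz (s (y j))
  obtain ⟨d, R₀, hR₀⟩ := exists_integral_mul_family t R₁
  have hR₀z : ∀ j, aeval z (R₀ j) = algebraMap A C t ^ d * s (y j) := fun j => by
    rw [← aeval_map_algebraMap K z (R₀ j), hR₀, map_mul, hR₁, aeval_C, map_pow,
      ← IsScalarTower.algebraMap_apply A K C]
  have hH : ∀ j, aeval y (bind₁ Pq (R₀ j) - MvPolynomial.C (t ^ d) * MvPolynomial.X j) = 0 := fun j => by
    rw [map_sub, hsub, hR₀z, map_mul, map_mul, aeval_C, aeval_X, map_pow, map_pow, hrs,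
      IsScalarTower.algebraMap_apply A K C, AlgHom.commutes, ← IsScalarTower.algebraMap_apply, sub_self]
  obtain ⟨D₀, hD₀⟩ := hrel _ ((hsub _).trans (by rw [hH₀, map_zero]))
  choose D₁ hD₁ using fun i : S => hrel (bind₁ Pq (F i)) (by
    rw [hsub]
    have h0 : map (algebraMap A K) (F i) ∈ RingHom.ker (aeval z : MvPolynomial (Fin n) K →ₐ[K] C) :=
      hzker ▸ Ideal.subset_span ⟨i.1, i.2, rfl⟩
    rw [RingHom.mem_ker, aeval_map_algebraMap] at h0
    rw [h0, map_zero])
  choose D₂ hD₂ using fun j => hrel _ (hH j)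
  set tb := algebraMap A R t with htb
  let D := D₀ + (∑ i, D₁ i) + (∑ j, D₂ j)
  let c' := c + m + d
  let L := 2 * c' + 1
  refine ⟨D + L, by omega, ?_⟩
  let a' := a (D + L)
  let u : Fin n → R := fun i => aeval a' (Pq i)
  have hdv : ∀ {q : R} {D' : ℕ}, D' ≤ D → tb ^ (D + L - D') ∣ q → tb ^ L ∣ q := fun hle h =>
    (pow_dvd_pow tb (by omega)).trans h
  have hu : ∀ H : MvPolynomial (Fin n) A, aeval a' (bind₁ Pq H) = aeval u H := fun H => aeval_bind₁ _ _ _
  have h0 : tb ^ L ∣ aeval u J * aeval u W₀ - tb ^ c := by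
    have := hdv (by omega) (hD₀ (D + L))
    rwa [hu, map_sub, map_mul, aeval_C, map_pow] at this
  have h1 : ∀ i ∈ S, tb ^ L ∣ aeval u (F i) := fun i hi => by
    have := hdv (D' := D₁ ⟨i, hi⟩) (by
      have := Finset.single_le_sum (f := D₁) (fun _ _ => Nat.zero_le _) (Finset.mem_univ ⟨i, hi⟩)
      omega) (hD₁ ⟨i, hi⟩ (D + L))
    rwa [hu] at this
  have h2 : ∀ j, tb ^ L ∣ aeval u (R₀ j) - tb ^ d * a' j := fun j => by
    have := hdv (D' := D₂ j) (by
      have := Finset.single_le_sum (f := D₂) (fun _ _ => Nat.zero_le _) (Finset.mem_univ j)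
      omega) (hD₂ j (D + L))
    rwa [map_sub, hu, map_mul, aeval_C, aeval_X, map_pow] at this
  obtain ⟨q₀, hq₀⟩ := h0
  have hunit : IsUnit (1 + tb ^ (L - c) * q₀) := isUnit_one_add (I := Ideal.span {tb})
    (Ideal.mul_mem_right _ _ (Ideal.pow_mem_of_mem _ (Ideal.mem_span_singleton_self tb) _ (by omega)))
  let Geq : Fin n → MvPolynomial (Fin n) R := fun i =>
    map (algebraMap A R) (F i) - MvPolynomial.C (if i ∈ S then 0 else aeval u (F i))
  have hev : ∀ (v : Fin n → R) (H : MvPolynomial (Fin n) A), eval v (map (algebraMap A R) H) = aeval v H :=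
    fun v H => by rw [eval_map]; rfl
  obtain ⟨v, hv, hv0⟩ := Groth.Agent.RigFEt7.exists_root_near tb ht Geq u c'
    (aeval u W₀ * (Ring.inverse (1 + tb ^ (L - c) * q₀) * tb ^ (m + d))) (by
      have hd' : (Matrix.of fun i j => eval u (pderiv j (Geq i))).det = aeval u J := by
        rw [AlgHom.map_det]
        congr 1
        ext i j
        simp only [Matrix.of_apply, AlgHom.mapMatrix_apply, Matrix.map_apply, Geq, map_sub, pderiv_C, sub_zero,
          pderiv_map, hev]
      have e0 : aeval u J * aeval u W₀ = tb ^ c * (1 + tb ^ (L - c) * q₀) := by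
        rw [mul_add, mul_one, ← mul_assoc, ← pow_add, Nat.add_sub_cancel' (by omega : c ≤ L)]
        linear_combination hq₀
      rw [hd', ← mul_assoc, e0, ← mul_assoc, mul_assoc (tb ^ c), Ring.mul_inverse_cancel _ hunit, mul_one,
        ← pow_add]
      congr 1
      omega) (fun i => by
      rw [Ideal.mem_span_singleton]
      simp only [Geq, map_sub, eval_C, hev]
      by_cases hi : i ∈ S
      · rw [if_pos hi, sub_zero]; exact (h1 i hi : _)
      · rw [if_neg hi, sub_self]; exact dvd_zero _)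
  have hroot : ∀ i ∈ S, aeval v (F i) = 0 := fun i hi => by
    have := hv0 i
    rwa [map_sub, eval_C, hev, if_pos hi, sub_zero] at this
  let vK : Fin n → Kb := fun i => algebraMap R Kb (v i)
  have hvK : ∀ H : MvPolynomial (Fin n) A,
      aeval vK (map (algebraMap A K) H) = algebraMap R Kb (aeval v H) := fun H => by
    rw [aeval_map_algebraMap]
    exact (comp_aeval_apply _ (IsScalarTower.toAlgHom A R Kb) H).symm
  let φ : C →ₐ[K] Kb := AlgHom.liftOfSurjective (aeval z) hz (aeval vK) (by
    intro q hq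
    replace hq : q ∈ RingHom.ker (aeval z : MvPolynomial (Fin n) K →ₐ[K] C) := hq
    rw [hzker] at hq
    induction hq using Submodule.span_induction with
    | mem q hq =>
      obtain ⟨i, hi, rfl⟩ := hq
      show aeval vK (map (algebraMap A K) (F i)) = 0
      rw [hvK, hroot i hi, map_zero]
    | zero => exact map_zero _
    | add p q _ _ hp hq =>
      show aeval vK (p + q) = 0
      rw [map_add, show aeval vK p = 0 from hp, show aeval vK q = 0 from hq, add_zero]
    | smul r q _ hq =>
      show aeval vK (r * q) = 0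
      rw [map_mul, show aeval vK q = 0 from hq, mul_zero])
  have hφ : ∀ H, φ (aeval z H) = aeval vK H := fun H =>
    AlgHom.liftOfSurjective_apply _ _ _ _ H
  have h3 : ∀ j, tb ^ (c' + 1) ∣ aeval v (R₀ j) - tb ^ d * a' j := fun j => by
    have e1 := dvd_aeval_sub (A := A) (fun i => Ideal.mem_span_singleton.1 (hv i)) (R₀ j)
    have e2 : tb ^ (c' + 1) ∣ aeval u (R₀ j) - tb ^ d * a' j := (pow_dvd_pow tb (by omega)).trans (h2 j)
    simpa using dvd_add e1 e2
  choose q₃ hq₃ using h3
  refine ⟨φ.comp s, fun j => a' j + tb ^ (c' + 1 - d) * q₃ j, fun j => ⟨?_, ?_⟩⟩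
  · have e1 := congrArg φ (hR₀z j)
    rw [map_mul, map_pow, IsScalarTower.algebraMap_apply A K C, AlgHom.commutes,
      ← IsScalarTower.algebraMap_apply A K Kb, IsScalarTower.algebraMap_apply A R Kb, ← htb,
      ← aeval_map_algebraMap K z (R₀ j), hφ, hvK] at e1
    have e2 : aeval v (R₀ j) = tb ^ d * (a' j + tb ^ (c' + 1 - d) * q₃ j) := by
      rw [mul_add, ← mul_assoc, ← pow_add, Nat.add_sub_cancel' (by omega : d ≤ c' + 1)]
      linear_combination hq₃ j
    rw [e2, map_mul, map_pow] at e1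
    exact ((IsLocalization.Away.algebraMap_isUnit (S := Kb) tb).pow d).mul_left_cancel e1.symm
  · rw [add_sub_cancel_left]
    exact Dvd.dvd.mul_right (pow_dvd_pow tb (by omega)) _

end Groth.Agent.SmoothApprox7
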