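import Groth.Agent.SmoothApprox7.Main
import Groth.Agent.Hensel.PairBasic
import Groth.Agent.SchTorsor.Props
import Groth.Agent.EtFound.Descent

/-!
# Affine smooth torsors over `A[1/t]` with a section after completion
-/

universe u
open MvPolynomial CategoryTheory AlgebraicGeometry

namespace Groth.Agent.SmoothApprox7

variable {A : Type u} [CommRing A] (t : A) [HenselianRing A (Ideal.span {t})]
  {K : Type u} [CommRing K] [Algebra A K] [IsLocalization.Away t K]
  (C' : Type u) [CommRing C'] [Algebra K C'] [Algebra A C'] [IsScalarTower A K C'] [Algebra.Smooth K C']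

theorem exists_point {p : ℕ} (y : Fin p → C') (hy : Function.Surjective (aeval y : MvPolynomial (Fin p) K →ₐ[K] C'))
    (a : ℕ → Fin p → A)
    (hrel : ∀ Q : MvPolynomial (Fin p) A, aeval y Q = 0 → ∃ D : ℕ, ∀ M : ℕ, t ^ M ∣ t ^ D * aeval (a M) Q) :
    Nonempty (C' →ₐ[K] K) := by
  let T : Ideal A := RingHom.ker (algebraMap A K)
  let R := A ⧸ T
  letI : Algebra R K := (Ideal.Quotient.lift T (algebraMap A K) fun x hx => hx).toAlgebra
  haveI : IsScalarTower A R K := IsScalarTower.of_algebraMap_eq fun x => rfl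
  have hinj : Function.Injective (algebraMap R K) := by
    rw [injective_iff_map_eq_zero]
    intro x hx
    obtain ⟨x, rfl⟩ := Ideal.Quotient.mk_surjective x
    exact Ideal.Quotient.eq_zero_iff_mem.2 hx
  haveI : IsLocalization.Away (algebraMap A R t) K := by
    constructor
    constructor
    · rintro ⟨_, m, rfl⟩
      rw [map_pow, ← IsScalarTower.algebraMap_apply]
      exact (IsLocalization.Away.algebraMap_isUnit t).pow m
    · intro z
      obtain ⟨⟨x, _, m, rfl⟩, hx⟩ := IsLocalization.surj (Submonoid.powers t) z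
      refine ⟨⟨algebraMap A R x, algebraMap A R t ^ m, m, rfl⟩, ?_⟩
      show z * algebraMap R K (algebraMap A R t ^ m) = algebraMap R K (algebraMap A R x)
      rw [map_pow, ← IsScalarTower.algebraMap_apply, ← IsScalarTower.algebraMap_apply, ← map_pow]
      exact hx
    · intro x y h
      exact ⟨1, by rw [hinj h]⟩
  haveI : HenselianRing R (Ideal.span {algebraMap A R t}) := by
    have h1 := Groth.Agent.Hensel.henselianRing_quotient T (Ideal.span {t})
    rwa [Ideal.map_span, Set.image_singleton] at h1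
  have hnzd : ∀ r : R, algebraMap A R t * r = 0 → r = 0 := fun r hr => hinj (by
    have := congrArg (algebraMap R K) hr
    rw [map_mul, map_zero, ← IsScalarTower.algebraMap_apply, (IsLocalization.Away.algebraMap_isUnit t).mul_right_eq_zero] at this
    rw [this, map_zero])
  obtain ⟨M, -, τ, -⟩ := exists_approx t hnzd K C' y hy (fun M j => algebraMap A R (a M j)) (fun Q hQ => by
    obtain ⟨D, hD⟩ := hrel Q hQ
    refine ⟨D, fun M => ?_⟩
    obtain ⟨q, hq⟩ := hD M
    have hc : ∀ (i : ℕ) (r : R), algebraMap A R t ^ i * r = 0 → r = 0 := fun i => by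
      induction i with
      | zero => intro r hr; simpa using hr
      | succ i ih => intro r hr; exact hnzd r (ih _ (by rw [← mul_assoc, ← pow_succ]; exact hr))
    rw [show aeval (fun j => algebraMap A R (a M j)) Q = algebraMap A R (aeval (a M) Q) from
      (comp_aeval_apply _ (Algebra.ofId A R) Q).symm]
    rcases Nat.le_total D M with hDM | hDM
    · refine ⟨algebraMap A R q, sub_eq_zero.1 (hc D _ ?_)⟩
      rw [mul_sub, ← mul_assoc, ← pow_add, Nat.add_sub_cancel' hDM, ← map_pow, ← map_pow, ← map_mul, ← map_mul, hq,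
        sub_self]
    · rw [Nat.sub_eq_zero_of_le hDM, pow_zero]
      exact one_dvd _) 0
  exact ⟨τ⟩

/-- A smooth algebra over `A[1/t]` with a point over `Ah[1/t]`, `Ah` an algebra with compatible maps onto all
`A/t^M`, has a point. -/
theorem exists_point_of_completed (Ah : Type u) [CommRing Ah] [Algebra A Ah]
    (ev : ∀ M : ℕ, Ah →ₐ[A] A ⧸ Ideal.span {t ^ M}) (Lh : Type u) [CommRing Lh] [Algebra Ah Lh] [Algebra A Lh]
    [IsScalarTower A Ah Lh] [IsLocalization.Away (algebraMap A Ah t) Lh] (σ : C' →ₐ[A] Lh) :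
    Nonempty (C' →ₐ[K] K) := by
  classical
  obtain ⟨p, f, hf⟩ := Algebra.FiniteType.iff_quotient_mvPolynomial''.1 (inferInstance : Algebra.FiniteType K C')
  let y₀ : Fin p → C' := fun j => f (X j)
  have hfy : aeval y₀ = f := algHom_ext fun j => aeval_X _ _
  have hclr : ∀ j, ∃ (e : ℕ) (α : Ah), σ (y₀ j) * algebraMap A Lh t ^ e = algebraMap Ah Lh α := fun j => by
    obtain ⟨⟨α, _, e, rfl⟩, h⟩ := IsLocalization.surj (Submonoid.powers (algebraMap A Ah t)) (σ (y₀ j))
    exact ⟨e, α, by rw [← h, IsScalarTower.algebraMap_apply A Ah Lh, ← map_pow]⟩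
  choose e α hα using hclr
  let E := ∑ j, e j
  let y : Fin p → C' := fun j => algebraMap A C' t ^ E * y₀ j
  let β : Fin p → Ah := fun j => algebraMap A Ah t ^ (E - e j) * α j
  have hσy : ∀ j, σ (y j) = algebraMap Ah Lh (β j) := fun j => by
    rw [map_mul, map_pow, σ.commutes, map_mul, map_pow, ← IsScalarTower.algebraMap_apply, ← hα,
      show E = (E - e j) + e j from (Nat.sub_add_cancel (Finset.single_le_sum (fun _ _ => Nat.zero_le _) (Finset.mem_univ j))).symm,
      pow_add, Nat.add_sub_cancel]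
    ring
  have hy : Function.Surjective (aeval y : MvPolynomial (Fin p) K →ₐ[K] C') := fun c => by
    obtain ⟨q, rfl⟩ := hf c
    obtain ⟨s, hs⟩ := (IsLocalization.Away.algebraMap_isUnit (S := K) t).pow E
    refine ⟨aeval (fun j => C (↑s⁻¹ : K) * X j) q, ?_⟩
    rw [comp_aeval_apply, ← hfy]
    refine congrArg (fun g => aeval g q) (funext fun j => ?_)
    rw [map_mul, aeval_C, aeval_X]
    simp only [y]
    rw [IsScalarTower.algebraMap_apply A K C', ← map_pow, ← hs, ← mul_assoc, ← map_mul, Units.inv_mul, map_one,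
      one_mul]
  choose a ha using fun M j => Ideal.Quotient.mk_surjective (ev M (β j))
  refine exists_point t C' y hy a fun Q hQ => ?_
  have h1 : algebraMap Ah Lh (aeval β Q) = algebraMap Ah Lh 0 := by
    have h0 := congrArg σ hQ
    rw [comp_aeval_apply, map_zero] at h0
    rw [map_zero, ← h0, show (algebraMap Ah Lh) (aeval β Q) = IsScalarTower.toAlgHom A Ah Lh (aeval β Q) from rfl,
      comp_aeval_apply]
    exact congrArg (fun g => aeval g Q) (funext fun j => (hσy j).symm)
  obtain ⟨⟨_, k, rfl⟩, hk⟩ := IsLocalization.exists_of_eq (M := Submonoid.powers (algebraMap A Ah t)) h1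
  refine ⟨k, fun M => ?_⟩
  have hk' := congrArg (ev M) hk
  simp only [mul_zero, map_zero, map_mul, map_pow, AlgHom.commutes, Ideal.Quotient.algebraMap_eq] at hk'
  rw [comp_aeval_apply, show (fun i => ev M (β i)) = fun i => Ideal.Quotient.mkₐ A (Ideal.span {t ^ M}) (a M i) from
    funext fun i => (ha M i).symm, ← comp_aeval_apply, Ideal.Quotient.mkₐ_eq_mk, ← map_pow, ← map_mul,
    Ideal.Quotient.eq_zero_iff_mem, Ideal.mem_span_singleton] at hk'
  exact hk'

open CategoryTheory in
/-- An affine smooth torsor over `A[1/t]` with a section over `Ah[1/t]` has a section. -/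
theorem hasSectionOver_id {A : Type u} [CommRing A] (t : A) [HenselianRing A (Ideal.span {t})]
    (Ah : Type u) [CommRing Ah] [Algebra A Ah] (ev : ∀ M : ℕ, Ah →ₐ[A] A ⧸ Ideal.span {t ^ M})
    (Lh : Type u) [CommRing Lh] [Algebra Ah Lh] [IsLocalization.Away (algebraMap A Ah t) Lh]
    (χ : Localization.Away t →+* Lh)
    (hχ : χ.comp (algebraMap A (Localization.Away t)) = (algebraMap Ah Lh).comp (algebraMap A Ah))
    (G : Over (Spec (CommRingCat.of (Localization.Away t)))) [GrpObj G] [IsAffine G.left] [Smooth G.hom]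
    (P : Over (Spec (CommRingCat.of (Localization.Away t)))) (a : AlgGrp.Action G P)
    (hP : NonAbH1.IsTorsorFor Scheme.fppfPrecoverage a)
    (hsec : NonAbH1.HasSectionOver P (Spec.map (CommRingCat.ofHom χ))) :
    NonAbH1.HasSectionOver P (𝟙 (Spec (CommRingCat.of (Localization.Away t)))) := by
  have hP' : NonAbH1.IsTorsorFor Scheme.fpqcPrecoverage a :=
    ⟨hP.1, hP.2.choose, Scheme.fppfPrecoverage_le_fpqcPrecoverage _ hP.2.choose_spec.1, hP.2.choose_spec.2⟩
  haveI := Groth.Agent.EtFound.fpqc_isAffineHom.{u}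
  haveI : IsAffineHom P.hom := SchTorsor.torsor_property @IsAffineHom hP' inferInstance
  haveI : Smooth P.hom := SchTorsor.torsor_property @Smooth hP' inferInstance
  haveI : IsAffine P.left := isAffine_of_isAffineHom P.hom
  let φ : CommRingCat.of (Localization.Away t) ⟶ Γ(P.left, ⊤) := Spec.preimage (P.left.isoSpec.inv ≫ P.hom)
  have hφ : Spec.map φ = P.left.isoSpec.inv ≫ P.hom := Spec.map_preimage _
  have hsm : φ.hom.Smooth := by
    rw [← HasRingHomProperty.Spec_iff (P := @Smooth), hφ]
    infer_instance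
  obtain ⟨s, hs⟩ := hsec
  let ψ : Γ(P.left, ⊤) ⟶ CommRingCat.of Lh := Spec.preimage (s ≫ P.left.isoSpec.hom)
  have hψ : φ ≫ ψ = CommRingCat.ofHom χ := Spec.map_injective (by
    rw [Spec.map_comp, hφ, Spec.map_preimage, Category.assoc, Iso.hom_inv_id_assoc, hs])
  letI : Algebra (Localization.Away t) Γ(P.left, ⊤) := φ.hom.toAlgebra
  haveI : Algebra.Smooth (Localization.Away t) Γ(P.left, ⊤) := hsm
  letI : Algebra A Γ(P.left, ⊤) := (φ.hom.comp (algebraMap A (Localization.Away t))).toAlgebra
  haveI : IsScalarTower A (Localization.Away t) Γ(P.left, ⊤) := IsScalarTower.of_algebraMap_eq fun _ => rfl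
  letI : Algebra A Lh := ((algebraMap Ah Lh).comp (algebraMap A Ah)).toAlgebra
  haveI : IsScalarTower A Ah Lh := IsScalarTower.of_algebraMap_eq fun _ => rfl
  let σ : Γ(P.left, ⊤) →ₐ[A] Lh :=
    { toRingHom := ψ.hom
      commutes' := fun r => (ConcreteCategory.congr_hom hψ (algebraMap A (Localization.Away t) r)).trans
        (RingHom.congr_fun hχ r) }
  obtain ⟨τ⟩ := exists_point_of_completed (K := Localization.Away t) t Γ(P.left, ⊤) Ah ev Lh σ
  refine ⟨Spec.map (CommRingCat.ofHom τ.toRingHom) ≫ P.left.isoSpec.inv, ?_⟩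
  rw [Category.assoc, ← hφ, ← Spec.map_comp,
    show φ ≫ CommRingCat.ofHom τ.toRingHom = 𝟙 _ from CommRingCat.hom_ext (RingHom.ext fun x => τ.commutes x), Spec.map_id]

end Groth.Agent.SmoothApprox7
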