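import Groth.Agent.RigFEt7.Approx
import Groth.Agent.SmoothingLib.StandardSmoothRetract

/-!
# Integral equations for standard smooth algebras over `A[1/t]`
-/

universe u
open MvPolynomial

namespace Groth.Agent.SmoothApprox7

variable {A : Type u} [CommRing A] (t : A) {K : Type u} [CommRing K] [Algebra A K] [IsLocalization.Away t K]

/-- A polynomial over `A[1/t]` times a power of `t` has coefficients in `A`. -/
theorem exists_integral_mul {n : ℕ} (Q : MvPolynomial (Fin n) K) :
    ∃ (d : ℕ) (P : MvPolynomial (Fin n) A), map (algebraMap A K) P = C (algebraMap A K t ^ d) * Q := by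
  induction Q using MvPolynomial.induction_on with
  | C a =>
    obtain ⟨⟨r, _, d, rfl⟩, h⟩ := IsLocalization.surj (Submonoid.powers t) a
    refine ⟨d, C r, ?_⟩
    rw [map_C, ← C_mul, ← h, mul_comm, map_pow]
  | add p q hp hq =>
    obtain ⟨d, P, hP⟩ := hp
    obtain ⟨d', P', hP'⟩ := hq
    refine ⟨d + d', C (t ^ d') * P + C (t ^ d) * P', ?_⟩
    simp only [map_add, map_mul, map_C, hP, hP', map_pow, pow_add, C_mul]
    ring
  | mul_X p i hp =>
    obtain ⟨d, P, hP⟩ := hp
    exact ⟨d, P * X i, by rw [map_mul, map_X, hP, mul_assoc]⟩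

theorem exists_integral_mul_family {n : ℕ} {ι : Type*} [Fintype ι] (Q : ι → MvPolynomial (Fin n) K) :
    ∃ (d : ℕ) (P : ι → MvPolynomial (Fin n) A),
      ∀ i, map (algebraMap A K) (P i) = C (algebraMap A K t ^ d) * Q i := by
  choose d P hP using fun i => exists_integral_mul t (Q i)
  refine ⟨∑ i, d i, fun i => C (t ^ ((∑ j, d j) - d i)) * P i, fun i => ?_⟩
  rw [map_mul, map_C, hP, ← mul_assoc, ← C_mul, map_pow, ← pow_add,
    Nat.sub_add_cancel (Finset.single_le_sum (fun _ _ => Nat.zero_le _) (Finset.mem_univ i))]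

/-- Square systems for standard smooth algebras: some of the equations cut out the algebra and the
Jacobian of all of them is invertible. -/
theorem exists_square_system (K C : Type u) [CommRing K] [CommRing C] [Algebra K C]
    [Algebra.IsStandardSmooth K C] :
    ∃ (n : ℕ) (G : Fin n → MvPolynomial (Fin n) K) (S : Set (Fin n)) (x : Fin n → C),
      Function.Surjective (aeval x : MvPolynomial (Fin n) K →ₐ[K] C) ∧
      RingHom.ker (aeval x : MvPolynomial (Fin n) K →ₐ[K] C) = Ideal.span (G '' S) ∧
      IsUnit (Matrix.of fun i j => aeval x (pderiv j (G i))).det := by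
  classical
  obtain ⟨ι, σ, _, _, ⟨P⟩⟩ := (inferInstance : Algebra.IsStandardSmooth K C).out
  haveI : Fintype ι := Fintype.ofFinite ι
  haveI : Fintype σ := Fintype.ofFinite σ
  let L := ((Set.range P.map)ᶜ : Set ι)
  let e : σ ⊕ L ≃ ι := (Equiv.sumCongr (Equiv.ofInjective _ P.map_inj) (Equiv.refl _)).trans
    (Equiv.Set.sumCompl (Set.range P.map))
  have hel : ∀ k, e (Sum.inl k) = P.map k := fun k => rfl
  have her : ∀ l : L, e (Sum.inr l) = l.1 := fun l => rfl
  let G₀ : σ ⊕ L → MvPolynomial ι K := Sum.elim P.relation fun l => MvPolynomial.X l.1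
  let ε : Fin (Fintype.card ι) ≃ ι := (Fintype.equivFin ι).symm
  let δ : Fin (Fintype.card ι) ≃ σ ⊕ L := ε.trans e.symm
  refine ⟨Fintype.card ι, fun i => rename ε.symm (G₀ (δ i)), δ ⁻¹' Set.range Sum.inl, fun i => P.val (ε i), ?_, ?_, ?_⟩
  · intro c
    refine ⟨rename ε.symm (P.σ c), ?_⟩
    rw [aeval_rename]
    convert P.aeval_val_σ c using 3
    funext i
    simp
  · have h1 : (fun i => rename ε.symm (G₀ (δ i))) '' (δ ⁻¹' Set.range Sum.inl) =
        (renameEquiv K ε.symm) '' Set.range P.relation := by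
      ext p
      constructor
      · rintro ⟨i, ⟨k, hk⟩, rfl⟩
        exact ⟨P.relation k, ⟨k, rfl⟩, by show rename _ _ = rename _ (G₀ (δ i)); rw [← hk]; rfl⟩
      · rintro ⟨_, ⟨k, rfl⟩, rfl⟩
        exact ⟨δ.symm (Sum.inl k), ⟨k, (δ.apply_symm_apply _).symm⟩,
          by show rename _ (G₀ (δ (δ.symm _))) = rename _ _; rw [δ.apply_symm_apply]; rfl⟩
    have hsur : Function.Surjective (renameEquiv K ε.symm : MvPolynomial ι K →+* MvPolynomial (Fin (Fintype.card ι)) K) :=
      (renameEquiv K ε.symm).surjective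
    rw [h1]
    refine Eq.trans ?_ (Ideal.map_span (renameEquiv K ε.symm : MvPolynomial ι K →+* MvPolynomial (Fin (Fintype.card ι)) K) _)
    rw [P.span_range_relation_eq_ker]
    ext p
    rw [Ideal.mem_map_iff_of_surjective _ hsur, RingHom.mem_ker]
    constructor
    · intro h
      refine ⟨rename ε p, ?_, ?_⟩
      · rw [Algebra.Generators.ker_eq_ker_aeval_val, RingHom.mem_ker, aeval_rename]
        exact h
      · show rename ε.symm (rename ε p) = p
        rw [rename_rename, Equiv.symm_comp_self, rename_id_apply]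
    · rintro ⟨q, hq, rfl⟩
      rw [Algebra.Generators.ker_eq_ker_aeval_val, RingHom.mem_ker] at hq
      show aeval _ (rename ε.symm q) = 0
      rw [aeval_rename]
      refine Eq.trans (congrArg (fun f => aeval f q) ?_) hq
      funext i
      simp
  · have hu := P.jacobian_isUnit
    rw [Algebra.PreSubmersivePresentation.jacobian_eq_jacobiMatrix_det, Algebra.Generators.algebraMap_apply,
      AlgHom.map_det, ← Matrix.det_transpose] at hu
    let J : Matrix (σ ⊕ L) (σ ⊕ L) C := Matrix.of fun a b => aeval P.val (pderiv (e b) (G₀ a))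
    have hJ : J = Matrix.fromBlocks (Matrix.of fun a b => aeval P.val (pderiv (P.map b) (P.relation a)))
        (Matrix.of fun a b => aeval P.val (pderiv b.1 (P.relation a))) 0 1 := by
      refine Matrix.ext fun a b => ?_
      rcases a with a | a <;> rcases b with b | b
      · rfl
      · rfl
      · show aeval P.val (pderiv (P.map b) (MvPolynomial.X a.1)) = 0
        rw [pderiv_X_of_ne fun h => a.2 ⟨b, h.symm⟩, map_zero]
      · show aeval P.val (pderiv b.1 (MvPolynomial.X a.1)) = (1 : Matrix L L C) a b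
        by_cases h : a = b
        · subst h; rw [pderiv_X_self, map_one, Matrix.one_apply_eq]
        · rw [pderiv_X_of_ne fun h' => h (Subtype.ext h'), map_zero, Matrix.one_apply_ne h]
    have hJu : IsUnit J.det := by
      rw [hJ, Matrix.det_fromBlocks_zero₂₁, Matrix.det_one, mul_one]
      convert hu using 2
      ext a b
      simp [Algebra.PreSubmersivePresentation.jacobiMatrix_apply]
    rw [← Matrix.det_submatrix_equiv_self δ] at hJu
    convert hJu using 2
    ext i j
    simp only [Matrix.of_apply, Matrix.submatrix_apply, J]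
    rw [show e (δ j) = ε j from e.apply_symm_apply _, ← ε.symm_apply_apply j, pderiv_rename ε.symm.injective,
      aeval_rename]
    simp [Function.comp_def]

/-- Integral square systems, the generators scaled by any given power of `t`. -/
theorem exists_integral_system (C : Type u) [CommRing C] [Algebra K C] [Algebra A C] [IsScalarTower A K C]
    (n : ℕ) (G : Fin n → MvPolynomial (Fin n) K) (S : Set (Fin n)) (x : Fin n → C)
    (hx : Function.Surjective (aeval x : MvPolynomial (Fin n) K →ₐ[K] C))
    (hker : RingHom.ker (aeval x : MvPolynomial (Fin n) K →ₐ[K] C) = Ideal.span (G '' S))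
    (hdet : IsUnit (Matrix.of fun i j => aeval x (pderiv j (G i))).det) (e : ℕ) :
    ∃ F : Fin n → MvPolynomial (Fin n) A,
      let z : Fin n → C := fun i => algebraMap A C t ^ e * x i
      Function.Surjective (aeval z : MvPolynomial (Fin n) K →ₐ[K] C) ∧
      RingHom.ker (aeval z : MvPolynomial (Fin n) K →ₐ[K] C) = Ideal.span ((fun i => map (algebraMap A K) (F i)) '' S) ∧
      IsUnit (Matrix.of fun i j => aeval z (pderiv j (F i))).det := by
  classical
  obtain ⟨s, hs⟩ := (IsLocalization.Away.algebraMap_isUnit (S := K) t).pow e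
  have hsC : algebraMap A C t ^ e = algebraMap K C s := by
    rw [hs, map_pow, ← IsScalarTower.algebraMap_apply]
  let z : Fin n → C := fun i => algebraMap A C t ^ e * x i
  let sc : MvPolynomial (Fin n) K →ₐ[K] MvPolynomial (Fin n) K :=
    aeval fun i => MvPolynomial.C ((s⁻¹ : Kˣ) : K) * MvPolynomial.X i
  let sc' : MvPolynomial (Fin n) K →ₐ[K] MvPolynomial (Fin n) K :=
    aeval fun i => MvPolynomial.C (s : K) * MvPolynomial.X i
  have hsc : ∀ p, aeval z (sc p) = aeval x p := fun p => by
    rw [comp_aeval_apply]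
    refine congrArg (fun f => aeval f p) (funext fun i => ?_)
    rw [map_mul, aeval_C, aeval_X]
    simp only [z, hsC]
    rw [← mul_assoc, ← map_mul, Units.inv_mul, map_one, one_mul]
  have hsc' : ∀ p, sc (sc' p) = p := fun p => by
    rw [comp_aeval_apply]
    refine Eq.trans (congrArg (fun f => aeval f p) (funext fun i => ?_)) (aeval_X_left_apply p)
    rw [map_mul, aeval_C, aeval_X, ← mul_assoc, MvPolynomial.algebraMap_eq, ← C_mul, Units.mul_inv, C_1, one_mul]
  obtain ⟨d, F, hF⟩ := exists_integral_mul_family t fun i => sc (G i)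
  obtain ⟨v, hv⟩ := (IsLocalization.Away.algebraMap_isUnit (S := K) t).pow d
  refine ⟨F, fun c => ?_, ?_, ?_⟩
  · obtain ⟨p, rfl⟩ := hx c
    exact ⟨sc p, hsc p⟩
  · have h1 : Ideal.span ((fun i => map (algebraMap A K) (F i)) '' S) = Ideal.span ((fun i => sc (G i)) '' S) := by
      simp only [hF, ← hv]
      refine le_antisymm (Ideal.span_le.2 ?_) (Ideal.span_le.2 ?_)
      · rintro _ ⟨i, hi, rfl⟩
        exact Ideal.mul_mem_left _ _ (Ideal.subset_span ⟨i, hi, rfl⟩)
      · rintro _ ⟨i, hi, rfl⟩
        have hin := Ideal.mul_mem_left _ (MvPolynomial.C ((v⁻¹ : Kˣ) : K))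
          (Ideal.subset_span (s := (fun i => MvPolynomial.C (v : K) * sc (G i)) '' S) ⟨i, hi, rfl⟩)
        rwa [← mul_assoc, ← C_mul, Units.inv_mul, C_1, one_mul] at hin
    rw [h1]
    have hsur : Function.Surjective (sc : MvPolynomial (Fin n) K →+* MvPolynomial (Fin n) K) := fun p => ⟨sc' p, hsc' p⟩
    refine Eq.trans ?_ (((Ideal.map_span (sc : MvPolynomial (Fin n) K →+* MvPolynomial (Fin n) K) (G '' S))).trans
      (congrArg Ideal.span (by rw [Set.image_image]; rfl)))
    rw [← hker]
    ext p
    rw [Ideal.mem_map_iff_of_surjective _ hsur, RingHom.mem_ker]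
    constructor
    · intro h
      exact ⟨sc' p, by rw [RingHom.mem_ker, ← hsc, hsc']; exact h, hsc' p⟩
    · rintro ⟨q, hq, rfl⟩
      exact (hsc q).trans hq
  · have hu : IsUnit (algebraMap K C (algebraMap A K t ^ d * ((s⁻¹ : Kˣ) : K))) :=
      (((IsLocalization.Away.algebraMap_isUnit (S := K) t).pow d).mul (Units.isUnit _)).map _
    have e : (Matrix.of fun i j => aeval z (pderiv j (F i))) =
        algebraMap K C (algebraMap A K t ^ d * ((s⁻¹ : Kˣ) : K)) • Matrix.of fun i j => aeval x (pderiv j (G i)) := by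
      ext i j
      rw [Matrix.smul_apply, Matrix.of_apply, Matrix.of_apply, smul_eq_mul, ← aeval_map_algebraMap K z,
        ← pderiv_map, hF, pderiv_C_mul, Groth.Agent.RigFEt7.pderiv_scale, map_mul, map_mul, hsc, aeval_C, aeval_C,
        map_mul, mul_assoc]
    show IsUnit (Matrix.of fun i j => aeval z (pderiv j (F i))).det
    rw [e, Matrix.det_smul]
    exact (hu.pow _).mul hdet

end Groth.Agent.SmoothApprox7
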